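import Mathlib

/-!
# Residue transcendence degrees grow under generization over a valuation ring (helper24)

If `A` is a ring in which divisibility is total (e.g. a valuation ring), `A → B` is a ring map and
`Q' ≤ Q` are primes of `B` over `p' ≤ p`, then `trdeg (A/p) (B/Q) ≤ trdeg (A/p') (B/Q')`.
-/

set_option autoImplicit false
set_option linter.style.haveILetI false
universe u
open MvPolynomial

namespace Groth.Agent.Lib.Helper24.ValRing

theorem exists_dvd_all {σ A : Type*} [CommRing A] (hdiv : ∀ a b : A, a ∣ b ∨ b ∣ a)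
    (s : Finset σ) (hs : s.Nonempty) (g : σ → A) : ∃ i ∈ s, ∀ j ∈ s, g i ∣ g j := by
  induction hs using Finset.Nonempty.cons_induction with
  | singleton a =>
    exact ⟨a, Finset.mem_singleton_self a, fun j hj => by rw [Finset.mem_singleton.mp hj]⟩
  | cons a s ha hs ih =>
    obtain ⟨i, hi, hall⟩ := ih
    rcases hdiv (g a) (g i) with h | h
    · refine ⟨a, Finset.mem_cons_self a s, fun j hj => ?_⟩
      rcases Finset.mem_cons.mp hj with rfl | hj
      · exact dvd_rfl
      · exact h.trans (hall j hj)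
    · refine ⟨i, Finset.mem_cons.mpr (Or.inr hi), fun j hj => ?_⟩
      rcases Finset.mem_cons.mp hj with rfl | hj
      · exact h
      · exact hall j hj

/-- A polynomial with a coefficient outside `p'` factors as `c * G` with `c ∉ p'` and `G` having a
coefficient congruent to `1` modulo `p'`. -/
theorem exists_factor {ι A : Type*} [CommRing A] (hdiv : ∀ a b : A, a ∣ b ∨ b ∣ a)
    (p' : Ideal A) [p'.IsPrime] (F : MvPolynomial ι A) (m₁ : ι →₀ ℕ) (hm₁ : coeff m₁ F ∉ p') :
    ∃ (c : A) (G : MvPolynomial ι A) (m₀ : ι →₀ ℕ), c ∉ p' ∧ F = C c * G ∧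
      1 - coeff m₀ G ∈ p' := by
  classical
  have hm₁s : m₁ ∈ F.support := by
    rw [mem_support_iff]
    intro h
    exact hm₁ (h ▸ p'.zero_mem)
  obtain ⟨m₀, hm₀, hall⟩ := exists_dvd_all hdiv F.support ⟨m₁, hm₁s⟩ (fun m => coeff m F)
  set c := coeff m₀ F with hc
  have hcp : c ∉ p' := by
    intro h
    obtain ⟨d, hd⟩ := hall m₁ hm₁s
    exact hm₁ (by simp only [hd]; exact p'.mul_mem_right _ h)
  have hb : ∀ m, ∃ b, coeff m F = c * b := by
    intro m
    by_cases hm : m ∈ F.support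
    · exact hall m hm
    · exact ⟨0, by rw [mul_zero]; exact notMem_support_iff.mp hm⟩
  choose b hb using hb
  refine ⟨c, ∑ m ∈ F.support, monomial m (b m), m₀, hcp, ?_, ?_⟩
  · ext m
    rw [coeff_C_mul, coeff_sum]
    simp only [coeff_monomial]
    rw [Finset.sum_ite_eq']
    by_cases hm : m ∈ F.support
    · rw [if_pos hm]; exact hb m
    · rw [if_neg hm, mul_zero]; exact notMem_support_iff.mp hm
  · rw [coeff_sum]
    simp only [coeff_monomial]
    rw [Finset.sum_ite_eq', if_pos hm₀]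
    have h1 : c * (1 - b m₀) = 0 := by
      rw [mul_sub, mul_one, ← hb m₀]; exact sub_self _
    have h2 : c * (1 - b m₀) ∈ p' := h1 ▸ p'.zero_mem
    exact (Ideal.IsPrime.mem_or_mem inferInstance h2).resolve_left hcp

theorem algebraicIndependent_of_le {A B : Type u} [CommRing A] [CommRing B] [Algebra A B]
    (hdiv : ∀ a b : A, a ∣ b ∨ b ∣ a)
    (p' p : Ideal A) (Q' Q : Ideal B) [p.IsPrime] [p'.IsPrime] [Q'.IsPrime] [Q.IsPrime]
    [Q'.LiesOver p'] [Q.LiesOver p] (hQ : Q' ≤ Q) {ι : Type*} (t : ι → B)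
    (ht : AlgebraicIndependent (A ⧸ p) (fun i => (Ideal.Quotient.mk Q (t i)))) :
    AlgebraicIndependent (A ⧸ p') (fun i => (Ideal.Quotient.mk Q' (t i))) := by
  have hpp : p' ≤ p := by
    rw [Ideal.LiesOver.over (p := p') (P := Q'), Ideal.LiesOver.over (p := p) (P := Q)]
    exact Ideal.comap_mono hQ
  rw [algebraicIndependent_iff]
  intro F hF
  by_contra hne
  obtain ⟨F', rfl⟩ := MvPolynomial.map_surjective (Ideal.Quotient.mk p')
    Ideal.Quotient.mk_surjective F
  obtain ⟨m₁, hm₁⟩ : ∃ m, coeff m (MvPolynomial.map (Ideal.Quotient.mk p') F') ≠ 0 := by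
    by_contra hall
    push Not at hall
    exact hne (MvPolynomial.ext _ _ (fun m => by rw [hall m, coeff_zero]))
  rw [coeff_map, Ne, Ideal.Quotient.eq_zero_iff_mem] at hm₁
  obtain ⟨c, G, m₀, hcp, hFG, hm₀⟩ := exists_factor hdiv p' F' m₁ hm₁
  -- evaluate
  have hev' : ∀ (P : Ideal B) (q : Ideal A) [P.LiesOver q] (H : MvPolynomial ι A),
      aeval (fun i => (Ideal.Quotient.mk P (t i))) (MvPolynomial.map (Ideal.Quotient.mk q) H) =
        Ideal.Quotient.mk P (aeval t H) := by
    intro P q _ H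
    have h1 : (Ideal.Quotient.mk q : A →+* A ⧸ q) = algebraMap A (A ⧸ q) := rfl
    rw [h1, MvPolynomial.aeval_map_algebraMap]
    exact (MvPolynomial.comp_aeval_apply (f := t) (Ideal.Quotient.mkₐ A P) H).symm
  rw [hev' Q' p' F', Ideal.Quotient.eq_zero_iff_mem, hFG, map_mul, aeval_C] at hF
  have hcQ : algebraMap A B c ∉ Q' := by
    intro h
    apply hcp
    rw [Ideal.LiesOver.over (p := p') (P := Q')]
    exact h
  have hG : aeval t G ∈ Q := hQ ((Ideal.IsPrime.mem_or_mem inferInstance hF).resolve_left hcQ)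
  have hG0 : MvPolynomial.map (Ideal.Quotient.mk p) G = 0 := by
    apply (algebraicIndependent_iff.mp ht)
    rw [hev' Q p G, Ideal.Quotient.eq_zero_iff_mem]
    exact hG
  have h1 : coeff m₀ G ∈ p := by
    have := congrArg (coeff m₀) hG0
    rwa [coeff_map, coeff_zero, Ideal.Quotient.eq_zero_iff_mem] at this
  have h2 : (1 : A) ∈ p := by
    have := p.add_mem (hpp hm₀) h1
    rwa [sub_add_cancel] at this
  exact (Ideal.IsPrime.ne_top inferInstance) ((Ideal.eq_top_iff_one p).mpr h2)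

theorem trdeg_le_of_le {A B : Type u} [CommRing A] [CommRing B] [Algebra A B]
    (hdiv : ∀ a b : A, a ∣ b ∨ b ∣ a)
    (p' p : Ideal A) (Q' Q : Ideal B) [p.IsPrime] [p'.IsPrime] [Q'.IsPrime] [Q.IsPrime]
    [Q'.LiesOver p'] [Q.LiesOver p] (hQ : Q' ≤ Q) :
    Algebra.trdeg (A ⧸ p) (B ⧸ Q) ≤ Algebra.trdeg (A ⧸ p') (B ⧸ Q') := by
  obtain ⟨s, hs⟩ := exists_isTranscendenceBasis (A ⧸ p) (A := B ⧸ Q)
  rw [← hs.cardinalMk_eq_trdeg]
  -- lift the basis to `B`
  have hlift : ∀ z : s, ∃ b : B, Ideal.Quotient.mk Q b = z.1 :=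
    fun z => Ideal.Quotient.mk_surjective z.1
  choose t ht using hlift
  have hind : AlgebraicIndependent (A ⧸ p) (fun i => (Ideal.Quotient.mk Q (t i))) := by
    have : (fun i => (Ideal.Quotient.mk Q (t i))) = ((↑) : s → B ⧸ Q) := funext ht
    rw [this]
    exact hs.1
  exact (algebraicIndependent_of_le hdiv p' p Q' Q hQ t hind).cardinalMk_le_trdeg

end Groth.Agent.Lib.Helper24.ValRing
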