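import Mathlib
import Groth.Agent.Lib.Helper24.ValRing.Alg
import Groth.Agent.Lib.Helper24.FibreDim.Main4943
import Groth.Agent.Lib.Helper18.Chev.Main

/-!
# Fibre-generic points over a valuation ring are stable under generization (helper24)
-/

set_option autoImplicit false
set_option linter.style.haveILetI false
universe u
open AlgebraicGeometry CategoryTheory Groth.Agent.Lib.Helper7 Groth.Agent.Lib.lead
  Groth.Agent.Lib.Helper18 Groth.Agent.Lib.Helper24.FibreDim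

namespace Groth.Agent.Lib.Helper24.ValRing

/-- Over a valuation ring, the residue transcendence degree does not drop under generization. -/
theorem tr_le_of_specializes (R : Type u) [CommRing R] [IsDomain R] [ValuationRing R]
    {X : Scheme.{u}} (φ : X ⟶ Spec (CommRingCat.of R)) [LocallyOfFiniteType φ] (x x' : X)
    (hgen : x' ⤳ x) : tr φ x ≤ tr φ x' := by
  obtain ⟨_, ⟨U, hU : IsAffineOpen U, rfl⟩, hxU, -⟩ :=
    (X.isBasis_affineOpens).exists_subset_of_mem_open (Set.mem_univ x) isOpen_univ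
  have hx'U : x' ∈ U := hgen.mem_open U.isOpen hxU
  have hV : IsAffineOpen (⊤ : (Spec (CommRingCat.of R)).Opens) := isAffineOpen_top _
  have e : U ≤ φ ⁻¹ᵁ (⊤ : (Spec (CommRingCat.of R)).Opens) := fun _ _ => trivial
  letI : Algebra Γ(Spec (CommRingCat.of R), ⊤) Γ(X, U) := (φ.appLE ⊤ U e).hom.toAlgebra
  have halg : algebraMap Γ(Spec (CommRingCat.of R), ⊤) Γ(X, U) = (φ.appLE ⊤ U e).hom := rfl
  have hdiv : ∀ a b : Γ(Spec (CommRingCat.of R), ⊤), a ∣ b ∨ b ∣ a := by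
    intro a b
    let ε : Γ(Spec (CommRingCat.of R), ⊤) ≃+* R :=
      (Scheme.ΓSpecIso (CommRingCat.of R)).commRingCatIsoToRingEquiv
    rcases ValuationRing.dvd_total (ε a) (ε b) with h | h
    · left; exact (map_dvd_iff ε).mp h
    · right; exact (map_dvd_iff ε).mp h
  haveI : (hU.primeIdealOf ⟨x, hxU⟩).asIdeal.LiesOver (hV.primeIdealOf ⟨φ x, e hxU⟩).asIdeal :=
    ResTrdegBridge.liesOver_primeIdealOf φ x hV hU e hxU (e hxU) halg
  haveI : (hU.primeIdealOf ⟨x', hx'U⟩).asIdeal.LiesOver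
      (hV.primeIdealOf ⟨φ x', e hx'U⟩).asIdeal :=
    ResTrdegBridge.liesOver_primeIdealOf φ x' hV hU e hx'U (e hx'U) halg
  have h1 := trdeg_chart φ hV hU e x hxU halg _ rfl
  have h2 := trdeg_chart φ hV hU e x' hx'U halg _ rfl
  have hPP : (hU.primeIdealOf ⟨x', hx'U⟩).asIdeal ≤ (hU.primeIdealOf ⟨x, hxU⟩).asIdeal :=
    (AffPts.primeIdealOf_le_iff hU ⟨x', hx'U⟩ ⟨x, hxU⟩).mpr hgen
  haveI := (hV.primeIdealOf ⟨φ x, e hxU⟩).isPrime
  haveI := (hV.primeIdealOf ⟨φ x', e hx'U⟩).isPrime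
  haveI := (hU.primeIdealOf ⟨x, hxU⟩).isPrime
  haveI := (hU.primeIdealOf ⟨x', hx'U⟩).isPrime
  have h3 := trdeg_le_of_le hdiv (hV.primeIdealOf ⟨φ x', e hx'U⟩).asIdeal
    (hV.primeIdealOf ⟨φ x, e hxU⟩).asIdeal (hU.primeIdealOf ⟨x', hx'U⟩).asIdeal
    (hU.primeIdealOf ⟨x, hxU⟩).asIdeal hPP
  rw [h1, h2] at h3
  exact_mod_cast h3

theorem main14887 (R : Type u) [CommRing R] [IsDomain R] [ValuationRing R] {X : Scheme.{u}}
    (φ : X ⟶ Spec (CommRingCat.of R)) [LocallyOfFiniteType φ]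
    (x x' : X) (hgen : x' ⤳ x) (hx : ∀ y : X, y ⤳ x → φ y = φ x → y = x) :
    ∀ y : X, y ⤳ x' → φ y = φ x' → y = x' := by
  intro y hy hφ
  by_contra hne
  have hmax : ∀ z' : X, φ z' = φ x → z' ⤳ x → z' = x := fun z' h1 h2 => hx z' h2 h1
  have h1 := fibreDimAt_of_fibre_max φ x hmax
  have h2 : FlatMor.fibreDimAt φ x' ≤ ((tr φ x : ℕ) : WithBot ℕ∞) := by
    have hopen := Chev.isOpen_fibreDimAt_le φ (tr φ x)
    have hxmem : x ∈ {z : X | FlatMor.fibreDimAt φ z ≤ ((tr φ x : ℕ) : WithBot ℕ∞)} := by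
      rw [Set.mem_setOf_eq, h1]
    exact hgen.mem_open hopen hxmem
  have h3 := tr_le_fibreDimAt φ hy hφ
  have h4 := tr_le_of_specializes R φ x x' hgen
  have hlt : x' < y :=
    lt_of_le_not_ge hy (fun h => hne ((Specializes.antisymm hy h).eq))
  have h5 := tr_lt_of_lt φ hlt hφ.symm
  have h6 : ((tr φ y : ℕ) : WithBot ℕ∞) ≤ ((tr φ x : ℕ) : WithBot ℕ∞) := h3.trans h2
  have h7 : tr φ y ≤ tr φ x := by exact_mod_cast h6
  omega

end Groth.Agent.Lib.Helper24.ValRing
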