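import Mathlib
import Groth.Agent.Lib.Helper24.ValRing.Main14887
import Groth.Agent.Lib.Helper24.FibreDim.Formula
import Groth.Agent.Lib.Helper21.TopDim

/-!
# Dimension of the closed fibre over a valuation ring (helper24)
-/

set_option autoImplicit false
set_option linter.style.haveILetI false
universe u
open AlgebraicGeometry CategoryTheory Groth.Agent.Lib.Helper7 Groth.Agent.Lib.lead
  Groth.Agent.Lib.Helper18 Groth.Agent.Lib.Helper24.FibreDim

namespace Groth.Agent.Lib.Helper24.ValRing

/-- Over a valuation ring, every nonempty fibre of a dominant morphism of finite type from an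
irreducible scheme has the dimension of the generic fibre. -/
theorem dim_fibre_eq {A : Type u} [CommRing A] [IsDomain A]
    [ValuationRing A] {X : Scheme.{u}} [IrreducibleSpace X] (f : X ⟶ Spec (CommRingCat.of A))
    [LocallyOfFiniteType f] [IsDominant f] (y0 : Spec (CommRingCat.of A))
    (h0 : Nonempty ↥(f.fiber y0)) :
    topologicalKrullDim ↥(f.fiber y0) =
      topologicalKrullDim ↥(f.fiber (genericPoint (Spec (CommRingCat.of A)))) := by
  have hfξ : f (genericPoint ↥X) = genericPoint ↥(Spec (CommRingCat.of A)) :=
    Groth.Agent.Lib.Helper18.GenFin.map_genericPoint_of_dense f f.denseRange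
  rw [dim_fibre_generic f _ hfξ]
  apply le_antisymm
  · rw [StalkDimIneq.topologicalKrullDim_eq_krullDim (f.fiber y0),
      Order.krullDim_eq_of_orderIso (FibreOrder.fiberOrderIso f y0)]
    unfold Order.krullDim
    apply iSup_le
    intro l
    let c : Fin (l.length + 1) → X := fun i => (l i).1
    have hc : StrictMono c := fun i j hij => l.strictMono hij
    have hfc : ∀ i, f (c i) = y0 := fun i => (l i).2
    have h1 := tr_add_le_of_strictMono f c hc (fun i => (hfc i).trans (hfc 0).symm) (Fin.last _)
    have h2 : tr f (c (Fin.last _)) ≤ tr f (genericPoint ↥X) :=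
      tr_le_of_specializes A f _ _ (_root_.genericPoint_specializes _)
    simp only [Fin.val_last] at h1
    have h3 : l.length ≤ tr f (genericPoint ↥X) := by omega
    exact_mod_cast h3
  · obtain ⟨w⟩ := h0
    set x : X := f.fiberι y0 w with hx
    obtain ⟨n, hn⟩ := Chev.exists_nat_fibreDimAt f x
    have hopen := Chev.isOpen_fibreDimAt_le f n
    have hxmem : x ∈ {z : X | FlatMor.fibreDimAt f z ≤ (n : WithBot ℕ∞)} := by
      rw [Set.mem_ofPred_eq, hn]
    have hξmem := (_root_.genericPoint_specializes x).mem_open hopen hxmem
    have hmax : ∀ z' : X, f z' = f (genericPoint ↥X) → z' ⤳ genericPoint ↥X →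
        z' = genericPoint ↥X :=
      fun z' _ h => (Specializes.antisymm h (_root_.genericPoint_specializes z')).eq
    rw [Set.mem_ofPred_eq, fibreDimAt_of_fibre_max f _ hmax] at hξmem
    have h4 : FlatMor.fibreDimAt f x = FlatMor.localDim (f.fiber y0) w := by
      rw [fibreDimAt_eq_tr_add_G f x, localDim_fibre f y0 w]
    have h5 := Groth.Agent.Lib.Helper21.TopDim.localDim_le (X := ↥(f.fiber y0)) w
    rw [← h4, hn] at h5
    exact hξmem.trans h5

end Groth.Agent.Lib.Helper24.ValRing
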