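import Mathlib
import Groth.Agent.Lib.Helper24.ValRing.Main4932

/-!
# Dimension of the special fibre over a valuation ring, algebraic form (helper24)
-/

set_option autoImplicit false
set_option linter.style.haveILetI false
universe u
open AlgebraicGeometry CategoryTheory TensorProduct

namespace Groth.Agent.Lib.Helper24.ValRing

/-- The scheme-theoretic fibre of `Spec S → Spec R` is `Spec (κ(p) ⊗ S)`. -/
noncomputable def fiberIso (R S : Type u) [CommRing R] [CommRing S] [Algebra R S]
    (p : PrimeSpectrum R) :
    (Spec.map (CommRingCat.ofHom (algebraMap R S))).fiber p ≅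
      Spec (CommRingCat.of (p.asIdeal.ResidueField ⊗[R] S)) :=
  Arrow.leftFunc.mapIso (Spec.fiberToSpecResidueFieldIso R S p)

theorem dim_fiber_Spec (R S : Type u) [CommRing R] [CommRing S] [Algebra R S]
    (p : PrimeSpectrum R) :
    topologicalKrullDim ↥((Spec.map (CommRingCat.ofHom (algebraMap R S))).fiber p) =
      ringKrullDim (p.asIdeal.ResidueField ⊗[R] S) := by
  rw [← PrimeSpectrum.topologicalKrullDim_eq_ringKrullDim]
  exact IsHomeomorph.topologicalKrullDim_eq _
    (Scheme.homeoOfIso (fiberIso R S p)).isHomeomorph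

theorem main0444 {R S : Type u} [CommRing R] [IsDomain R] [ValuationRing R] [CommRing S]
    [IsDomain S] [Algebra R S]
    (hinj : Function.Injective (algebraMap R S)) [Algebra.FiniteType R S]
    [Nontrivial (IsLocalRing.ResidueField R ⊗[R] S)] :
    ringKrullDim (IsLocalRing.ResidueField R ⊗[R] S) = ringKrullDim (FractionRing R ⊗[R] S) := by
  -- algebra isomorphisms of the residue fields
  let eκ : IsLocalRing.ResidueField R ≃ₐ[R] (IsLocalRing.maximalIdeal R).ResidueField :=
    AlgEquiv.ofBijective
      (IsScalarTower.toAlgHom R (R ⧸ IsLocalRing.maximalIdeal R)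
        (IsLocalRing.maximalIdeal R).ResidueField)
      (Ideal.bijective_algebraMap_quotient_residueField _)
  let eK : FractionRing R ≃ₐ[R] (⊥ : Ideal R).ResidueField :=
    IsLocalization.algEquiv (nonZeroDivisors R) _ _
  have h1 : ringKrullDim (IsLocalRing.ResidueField R ⊗[R] S) =
      ringKrullDim ((IsLocalRing.maximalIdeal R).ResidueField ⊗[R] S) :=
    ringKrullDim_eq_of_ringEquiv
      (Algebra.TensorProduct.congr eκ (AlgEquiv.refl : S ≃ₐ[R] S)).toRingEquiv
  have h2 : ringKrullDim (FractionRing R ⊗[R] S) =
      ringKrullDim ((⊥ : Ideal R).ResidueField ⊗[R] S) :=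
    ringKrullDim_eq_of_ringEquiv
      (Algebra.TensorProduct.congr eK (AlgEquiv.refl : S ≃ₐ[R] S)).toRingEquiv
  rw [h1, h2]
  -- the geometric statement
  set f : Spec (CommRingCat.of S) ⟶ Spec (CommRingCat.of R) :=
    Spec.map (CommRingCat.ofHom (algebraMap R S)) with hf
  haveI : LocallyOfFiniteType f := by
    rw [hf, HasRingHomProperty.Spec_iff (P := @LocallyOfFiniteType)]
    exact (RingHom.finiteType_algebraMap (A := R) (B := S)).mpr inferInstance
  haveI : IsDominant f := by
    constructor
    rw [hf]
    exact (PrimeSpectrum.denseRange_comap_iff_ker_le_nilRadical _).mpr (by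
      have hk : RingHom.ker (CommRingCat.Hom.hom (CommRingCat.ofHom (algebraMap R S))) = ⊥ :=
        (RingHom.injective_iff_ker_eq_bot _).mp hinj
      rw [hk]
      exact bot_le)
  haveI : Nontrivial ((IsLocalRing.maximalIdeal R).ResidueField ⊗[R] S) :=
    (Algebra.TensorProduct.congr eκ (AlgEquiv.refl : S ≃ₐ[R] S)).toRingEquiv.injective.nontrivial
  have h0 : Nonempty ↥(f.fiber (IsLocalRing.closedPoint R)) := by
    have : Nonempty (Spec (CommRingCat.of ((IsLocalRing.maximalIdeal R).ResidueField ⊗[R] S))) :=
      inferInstanceAs (Nonempty (PrimeSpectrum _))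
    exact this.map (fiberIso R S (IsLocalRing.closedPoint R)).inv
  have key := dim_fibre_eq f (IsLocalRing.closedPoint R) h0
  rw [genericPoint_eq_bot_of_affine (CommRingCat.of R)] at key
  rw [hf, dim_fiber_Spec R S (IsLocalRing.closedPoint R), dim_fiber_Spec R S ⊥] at key
  exact key

end Groth.Agent.Lib.Helper24.ValRing
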