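import Mathlib
import Groth.Agent.Lib.Helper24.ValRing.Main4932
import Groth.Agent.Lib.Helper24.FibreDim.EquidimConv

/-!
# Equidimensionality of the special fibre over a valuation ring (helper24)
-/

set_option autoImplicit false
set_option linter.style.haveILetI false
universe u
open AlgebraicGeometry CategoryTheory Groth.Agent.Lib.Helper7 Groth.Agent.Lib.lead
  Groth.Agent.Lib.Helper18 Groth.Agent.Lib.Helper24.FibreDim

namespace Groth.Agent.Lib.Helper24.ValRing

/-- Over a valuation ring, a generization of a fibre-generic point has the same residue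
transcendence degree. -/
theorem tr_eq_of_specializes_of_max (R : Type u) [CommRing R] [IsDomain R] [ValuationRing R]
    {X : Scheme.{u}} (φ : X ⟶ Spec (CommRingCat.of R)) [LocallyOfFiniteType φ]
    (x x' : X) (hgen : x' ⤳ x) (hx : ∀ y : X, φ y = φ x → y ⤳ x → y = x) :
    tr φ x' = tr φ x := by
  have h1 := fibreDimAt_of_fibre_max φ x hx
  have h2 : FlatMor.fibreDimAt φ x' ≤ ((tr φ x : ℕ) : WithBot ℕ∞) := by
    have hopen := Chev.isOpen_fibreDimAt_le φ (tr φ x)
    have hxmem : x ∈ {z : X | FlatMor.fibreDimAt φ z ≤ ((tr φ x : ℕ) : WithBot ℕ∞)} := by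
      rw [Set.mem_ofPred_eq, h1]
    exact hgen.mem_open hopen hxmem
  have h3 := tr_le_fibreDimAt φ (specializes_rfl (x := x')) rfl
  have h4 := tr_le_of_specializes R φ x x' hgen
  have h6 : ((tr φ x' : ℕ) : WithBot ℕ∞) ≤ ((tr φ x : ℕ) : WithBot ℕ∞) := h3.trans h2
  have h7 : tr φ x' ≤ tr φ x := by exact_mod_cast h6
  omega

theorem main7624 (R : Type u) [CommRing R] [IsDomain R] [ValuationRing R]
    (X : Scheme.{u}) [IrreducibleSpace ↥X] (f : X ⟶ Spec (CommRingCat.of R))
    [LocallyOfFiniteType f] [IsDominant f]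
    (y0 : Spec (CommRingCat.of R))
    (Z : Set ↥(f.fiber y0)) (hZ : Z ∈ irreducibleComponents ↥(f.fiber y0)) :
    topologicalKrullDim ↥Z =
      topologicalKrullDim ↥(f.fiber (⟨⊥, Ideal.bot_prime⟩ : PrimeSpectrum R)) := by
  have hfξ : f (genericPoint ↥X) = genericPoint ↥(Spec (CommRingCat.of R)) :=
    Groth.Agent.Lib.Helper18.GenFin.map_genericPoint_of_dense f f.denseRange
  rw [genericPoint_eq_bot_of_affine (CommRingCat.of R)] at hfξ
  have hgenfib := dim_fibre_generic f (⟨⊥, Ideal.bot_prime⟩ : PrimeSpectrum R) hfξ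
  rw [hgenfib]
  -- generic point of `Z`
  have hZirr : IsIrreducible Z := hZ.1
  have hZcl : IsClosed Z := isClosed_of_mem_irreducibleComponents Z hZ
  obtain ⟨z, hz⟩ := QuasiSober.sober hZirr hZcl
  have hZeq : Z = closure {z} := hz.def.symm
  set v : X := f.fiberι y0 z with hv
  have hfv : f v = y0 := by
    have : v ∈ Set.range (f.fiberι y0) := ⟨z, rfl⟩
    rw [f.range_fiberι] at this
    exact this
  have hdimZ : topologicalKrullDim ↥Z = ((tr f v : ℕ) : WithBot ℕ∞) := by
    rw [hZeq]
    exact dim_closure_fibre_point f y0 v hfv z rfl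
  rw [hdimZ]
  -- `v` is maximal in its fibre
  have hind : Topology.IsInducing (f.fiberι y0) := (f.fiberι y0).isEmbedding.isInducing
  have hmax : ∀ y : X, f y = f v → y ⤳ v → y = v := by
    intro y hy hsp
    have : y ∈ Set.range (f.fiberι y0) := by
      rw [f.range_fiberι]
      exact hy.trans hfv
    obtain ⟨w, rfl⟩ := this
    have hwz : w ⤳ z := hind.specializes_iff.mp hsp
    have hsub : Z ⊆ closure {w} := by
      rw [hZeq]
      exact closure_minimal (Set.singleton_subset_iff.mpr hwz.mem_closure) isClosed_closure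
    have hirr : IsIrreducible (closure ({w} : Set ↥(f.fiber y0))) :=
      isIrreducible_singleton.closure
    have hle : closure ({w} : Set ↥(f.fiber y0)) ⊆ Z := hZ.2 hirr hsub
    have hzw : z ⤳ w := by
      rw [specializes_iff_mem_closure, ← hZeq]
      exact hle (subset_closure rfl)
    have : w = z := (Specializes.antisymm hwz hzw).eq
    rw [this]
  have h := tr_eq_of_specializes_of_max R f v (genericPoint ↥X)
    (_root_.genericPoint_specializes v) hmax
  rw [h]

end Groth.Agent.Lib.Helper24.ValRing
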